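import Mathlib

/-!
# S4879, row `E₈`, box K2 (helper624): a `5 × 5` matrix of order `11` over a field `K`, `|K|` of order `5` modulo `11`
-/

set_option autoImplicit false

open Polynomial Matrix

namespace Cfsg.Agent.H624.L8

universe u

theorem k2 {K : Type u} [Field K] [Fintype K] (ho : orderOf ((Fintype.card K : ℕ) : ZMod 11) = 5)
    {ι : Type*} [Fintype ι] [DecidableEq ι] (D E : Matrix ι ι K) (hι : Fintype.card ι = 5) (h11 : D ^ 11 = 1)
    (h1 : D ≠ 1) (hDE : D * E = 1) : Irreducible D.charpoly ∧ E.charpoly ≠ D.charpoly := by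
  classical
  obtain ⟨p, -, n, hp, hc⟩ := FiniteField.card' K
  have : Fact p.Prime := ⟨hp⟩
  have h11p : Fact (Nat.Prime 11) := ⟨by norm_num⟩
  have hp11 : p.Coprime 11 := by
    rw [Nat.coprime_primes hp (by norm_num)]
    rintro rfl
    rw [hc] at ho
    have h2 : (((11 : ℕ) ^ (n : ℕ) : ℕ) : ZMod 11) = 0 := by
      rw [Nat.cast_pow]
      rw [ZMod.natCast_self, zero_pow n.ne_zero]
    rw [h2] at ho
    have h3 : orderOf (0 : ZMod 11) = 0 := by
      rw [orderOf_eq_zero_iff']
      intro m hm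
      rw [zero_pow hm.ne']
      exact zero_ne_one
    omega
  have hord : orderOf (ZMod.unitOfCoprime _ (hp11.pow_left (n : ℕ))) = 5 := by
    rw [← orderOf_units, ZMod.coe_unitOfCoprime, ← hc]
    exact ho
  have hcdeg : D.charpoly.natDegree = 5 := by rw [Matrix.charpoly_natDegree_eq_dim, hι]
  have hc0 : D.charpoly ≠ 0 := D.charpoly_monic.ne_zero
  have hX : (X ^ 11 - 1 : K[X]) = cyclotomic 11 K * (X - 1) := (cyclotomic_prime_mul_X_sub_one K 11).symm
  have hm : minpoly K D ∣ cyclotomic 11 K * (X - 1) := by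
    rw [← hX]
    apply minpoly.dvd
    simp [h11]
  -- an irreducible factor
  obtain ⟨g, hg, hgm, hgc⟩ : ∃ g : K[X], Irreducible g ∧ g ∣ minpoly K D ∧ g ∣ cyclotomic 11 K := by
    by_contra hcon
    push Not at hcon
    have hcop : IsCoprime (minpoly K D) (cyclotomic 11 K) := by
      apply isCoprime_of_irreducible_dvd
      · rintro ⟨h2, h3⟩
        exact cyclotomic_ne_zero 11 K h3
      · intro z hz hz1 hz2
        exact hcon z hz hz1 hz2
    have h2 : minpoly K D ∣ X - 1 := hcop.dvd_of_dvd_mul_left hm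
    apply h1
    have h3 : aeval D (X - 1 : K[X]) = 0 := by
      obtain ⟨c, hc⟩ := h2
      rw [hc, map_mul, minpoly.aeval, zero_mul]
    rw [map_sub, aeval_X, map_one] at h3
    exact sub_eq_zero.1 h3
  have hgdeg : g.natDegree = 5 := by
    rw [natDegree_of_dvd_cyclotomic_of_irreducible hc hp11 hgc hg, hord]
  have hass : Associated g D.charpoly :=
    associated_of_dvd_of_natDegree_le (hgm.trans (Matrix.minpoly_dvd_charpoly D)) hc0 (by rw [hcdeg, hgdeg])
  have hirr : Irreducible D.charpoly := hass.irreducible hg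
  refine ⟨hirr, ?_⟩
  intro hEq
  -- the field
  obtain ⟨f, hf⟩ : ∃ f : K[X], f = D.charpoly := ⟨_, rfl⟩
  have hmon : f.Monic := hf ▸ D.charpoly_monic
  rw [← hf] at hEq hirr hass hc0 hcdeg
  have : Fact (Irreducible f) := ⟨hirr⟩
  have := hmon.finite_adjoinRoot
  have : Finite (AdjoinRoot f) := Module.finite_of_finite K
  set ζ : AdjoinRoot f := AdjoinRoot.root f with hζ
  have hroot : aeval ζ f = 0 := by
    rw [hζ, AdjoinRoot.aeval_eq, AdjoinRoot.mk_self]
  have hζ11 : ζ ^ 11 = 1 := by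
    have h2 : f ∣ X ^ 11 - 1 := by
      rw [hX]
      exact (hass.symm.dvd.trans hgc).mul_right _
    obtain ⟨c, hc⟩ := h2
    have h3 := congrArg (aeval ζ) hc
    rw [map_mul, hroot, zero_mul, map_sub, map_pow, aeval_X, map_one] at h3
    exact sub_eq_zero.1 h3
  have hζ0 : ζ ≠ 0 := by
    intro h0
    rw [h0] at hζ11
    norm_num at hζ11
  -- `ζ⁻¹` is a root of `E.charpoly`
  have hroot' : aeval ζ⁻¹ f = 0 := by
    have h2 : (algebraMap K (AdjoinRoot f)).mapMatrix D * (algebraMap K (AdjoinRoot f)).mapMatrix E = 1 := by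
      rw [← map_mul, hDE, map_one]
    have h2' : (algebraMap K (AdjoinRoot f)).mapMatrix E * (algebraMap K (AdjoinRoot f)).mapMatrix D = 1 :=
      mul_eq_one_comm.1 h2
    have h3 : ∀ (M : Matrix ι ι K) (t : AdjoinRoot f), aeval t M.charpoly =
        (Matrix.scalar ι t - (algebraMap K (AdjoinRoot f)).mapMatrix M).det := by
      intro M t
      rw [← Matrix.eval_charpoly, RingHom.mapMatrix_apply, Matrix.charpoly_map, eval_map_algebraMap]
    have hroot2 : aeval ζ D.charpoly = 0 := by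
      have := hroot
      rwa [congrArg (aeval ζ) hf] at this
    rw [h3] at hroot2
    rw [← congrArg (aeval ζ⁻¹) hEq, h3]
    set D' := (algebraMap K (AdjoinRoot f)).mapMatrix D
    set E' := (algebraMap K (AdjoinRoot f)).mapMatrix E
    have h4 : Matrix.scalar ι ζ⁻¹ - E' = -(Matrix.scalar ι ζ⁻¹) * E' * (Matrix.scalar ι ζ - D') := by
      have h5 : Matrix.scalar ι ζ⁻¹ * Matrix.scalar ι ζ = 1 := by
        rw [← map_mul, inv_mul_cancel₀ hζ0, map_one]
      have h6 : E' * Matrix.scalar ι ζ = Matrix.scalar ι ζ * E' :=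
        ((Matrix.scalar_commute ζ (fun r => mul_comm _ _) E').eq).symm
      rw [mul_sub, mul_assoc, h6, ← mul_assoc, neg_mul, h5, mul_assoc, h2']
      simp only [neg_mul, one_mul, mul_one]
      abel
    rw [h4, Matrix.det_mul, hroot2, mul_zero]
  -- the automorphism
  let τ : AdjoinRoot f →ₐ[K] AdjoinRoot f := AdjoinRoot.liftAlgHom f (Algebra.ofId K _) ζ⁻¹ (by
    have := hroot'
    rw [aeval_def] at this
    exact this)
  have hτ : τ ζ = ζ⁻¹ := by
    simp only [τ, hζ]
    exact AdjoinRoot.liftAlgHom_root _ _ _ _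
  let σ : AdjoinRoot f ≃ₐ[K] AdjoinRoot f := (algEquivEquivAlgHom K (AdjoinRoot f)).symm τ
  have hσ : ∀ x, σ x = τ x := fun x => rfl
  have hσ2 : σ ^ 2 = 1 := by
    apply AlgEquiv.ext
    intro x
    have h2 : (τ.comp τ) = AlgHom.id K (AdjoinRoot f) := by
      apply AdjoinRoot.algHom_ext
      change τ (τ ζ) = ζ
      rw [hτ, map_inv₀, hτ, inv_inv]
    have h3 := AlgHom.congr_fun h2 x
    rw [pow_two]
    exact h3
  have hcard : Nat.card (AdjoinRoot f ≃ₐ[K] AdjoinRoot f) = 5 := by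
    rw [IsGalois.card_aut_eq_finrank, (AdjoinRoot.powerBasis hc0).finrank, AdjoinRoot.powerBasis_dim, hcdeg]
  have hσ1 : σ = 1 := by
    have h2 : orderOf σ ∣ 2 := orderOf_dvd_of_pow_eq_one hσ2
    have h3 : orderOf σ ∣ 5 := by
      rw [← hcard]
      exact orderOf_dvd_natCard σ
    have h4 : orderOf σ ∣ Nat.gcd 2 5 := Nat.dvd_gcd h2 h3
    exact orderOf_eq_one_iff.1 (Nat.dvd_one.1 h4)
  have hζi : ζ⁻¹ = ζ := by
    rw [← hτ, ← hσ, hσ1]
    rfl
  have hζ1 : ζ = 1 := by
    have h2 : ζ * ζ = 1 := by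
      nth_rw 1 [← hζi]
      exact inv_mul_cancel₀ hζ0
    have h3 : ζ ^ 11 = (ζ * ζ) ^ 5 * ζ := by ring
    rw [h2, one_pow, one_mul, hζ11] at h3
    exact h3.symm
  have h5 : f.IsRoot 1 := by
    rw [IsRoot.def]
    apply (algebraMap K (AdjoinRoot f)).injective
    rw [map_zero, ← hroot, hζ1]
    have := aeval_algebraMap_apply (AdjoinRoot f) (1 : K) f
    rw [map_one] at this
    rw [this]
    rfl
  have h6 := degree_eq_one_of_irreducible_of_root hirr h5
  rw [degree_eq_natDegree hc0, hcdeg] at h6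
  norm_num at h6

end Cfsg.Agent.H624.L8
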