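import Mathlib

/-!
# Groups of matrices generated by transvections (helper624, S4879, box K3)

`dvd_card` : a group of matrices which contains the transvections of all pairs of indices has order divisible by
`|K| ^ n - 1`.
-/

set_option autoImplicit false

namespace Cfsg.Agent.H624.L8

open Matrix

variable {ι : Type*} [Fintype ι] [DecidableEq ι] {K : Type*} [Field K]

/-- `H` contains the transvections `1 + t E_{ab}` -/
def Has (H : Subgroup (Matrix ι ι K)ˣ) (a b : ι) : Prop :=
  a = b ∨ ∀ t : K, ∃ h ∈ H, (h : Matrix ι ι K) = Matrix.transvection a b t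

theorem Has.trans {H : Subgroup (Matrix ι ι K)ˣ} {a b c : ι} (h1 : Has H a b) (h2 : Has H b c) : Has H a c := by
  by_cases hab : a = b
  · rw [hab]; exact h2
  by_cases hbc : b = c
  · rw [← hbc]; exact h1
  by_cases hac : a = c
  · exact Or.inl hac
  have h1' := h1.resolve_left hab
  have h2' := h2.resolve_left hbc
  refine Or.inr fun t => ?_
  obtain ⟨x, hx, ex⟩ := h1' t
  obtain ⟨x', hx', ex'⟩ := h1' (-t)
  obtain ⟨y, hy, ey⟩ := h2' 1
  obtain ⟨y', hy', ey'⟩ := h2' (-1)
  refine ⟨x * y * x' * y', mul_mem (mul_mem (mul_mem hx hy) hx') hy', ?_⟩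
  rw [Units.val_mul, Units.val_mul, Units.val_mul, ex, ex', ey, ey']
  unfold Matrix.transvection
  have e1 : (Matrix.single a b (-t) : Matrix ι ι K) = - Matrix.single a b t := by
    ext i j; simp [Matrix.single_apply]; split_ifs <;> simp
  have e2 : (Matrix.single b c (-1 : K) : Matrix ι ι K) = - Matrix.single b c 1 := by
    ext i j; simp [Matrix.single_apply]; split_ifs <;> simp
  rw [e1, e2]
  have hxy : (Matrix.single a b t : Matrix ι ι K) * Matrix.single b c 1 = Matrix.single a c t := by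
    rw [Matrix.single_mul_single_same, mul_one]
  have hxx : (Matrix.single a b t : Matrix ι ι K) * Matrix.single a b t = 0 :=
    Matrix.single_mul_single_of_ne _ _ _ _ (Ne.symm hab) _
  have hyy : (Matrix.single b c (1 : K) : Matrix ι ι K) * Matrix.single b c 1 = 0 :=
    Matrix.single_mul_single_of_ne _ _ _ _ (Ne.symm hbc) _
  have hyx : (Matrix.single b c (1 : K) : Matrix ι ι K) * Matrix.single a b t = 0 :=
    Matrix.single_mul_single_of_ne _ _ _ _ (Ne.symm hac) _
  rw [← hxy]
  set x0 : Matrix ι ι K := Matrix.single a b t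
  set y0 : Matrix ι ι K := Matrix.single b c 1
  have r1 : x0 * y0 * x0 = 0 := by rw [Matrix.mul_assoc, hyx, Matrix.mul_zero]
  have r2 : x0 * y0 * y0 = 0 := by rw [Matrix.mul_assoc, hyy, Matrix.mul_zero]
  calc (1 + x0) * (1 + y0) * (1 + -x0) * (1 + -y0)
      = 1 + x0 * y0 - x0 * x0 - y0 * x0 - y0 * y0 - x0 * y0 * x0 - x0 * y0 * y0 + x0 * x0 * y0 + y0 * x0 * y0 +
          x0 * y0 * x0 * y0 := by noncomm_ring
    _ = 1 + x0 * y0 := by rw [r1, r2, hxx, hyx, hyy]; simp

theorem transvection_mulVec (a b : ι) (t : K) (v : ι → K) (i : ι) :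
    (Matrix.transvection a b t).mulVec v i = v i + if i = a then t * v b else 0 := by
  unfold Matrix.transvection
  rw [Matrix.add_mulVec, Matrix.one_mulVec, Pi.add_apply]
  congr 1
  rw [Matrix.mulVec, dotProduct, Finset.sum_eq_single b]
  · rw [Matrix.single_apply]
    by_cases h : i = a
    · simp [h]
    · rw [if_neg h, if_neg (fun h' => h h'.1.symm), zero_mul]
  · intro j _ hj
    rw [Matrix.single_apply, if_neg (fun h' => hj h'.2.symm), zero_mul]
  · intro h
    exact absurd (Finset.mem_univ _) h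

theorem exists_single {H : Subgroup (Matrix ι ι K)ˣ} (hH : ∀ a b, Has H a b) (o : ι) :
    ∀ (S : Finset ι) (v : ι → K), v o = 1 → (∀ c, c ∉ S → c ≠ o → v c = 0) →
      ∃ h ∈ H, (h : Matrix ι ι K).mulVec v = Pi.single o 1 := by
  intro S
  induction S using Finset.induction_on with
  | empty =>
    intro v h1 h2
    refine ⟨1, one_mem _, ?_⟩
    rw [Units.val_one, Matrix.one_mulVec]
    funext c
    by_cases hc : c = o
    · rw [hc, h1, Pi.single_eq_same]
    · rw [h2 c (Finset.notMem_empty _) hc, Pi.single_eq_of_ne hc]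
  | insert d S _ ih =>
    intro v h1 h2
    by_cases hd : d = o
    · refine ih v h1 fun c hc hco => h2 c (fun h => ?_) hco
      rcases Finset.mem_insert.1 h with h | h
      · exact hco (h.trans hd)
      · exact hc h
    obtain ⟨x, hx, ex⟩ := (hH d o).resolve_left hd (-v d)
    obtain ⟨y, hy, ey⟩ := ih ((x : Matrix ι ι K).mulVec v) (by
      rw [ex, transvection_mulVec, if_neg (Ne.symm hd), add_zero, h1]) (by
      intro c hc hco
      rw [ex, transvection_mulVec]
      by_cases hcd : c = d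
      · rw [if_pos hcd, h1, hcd]; ring
      · rw [if_neg hcd, add_zero]
        refine h2 c (fun h => ?_) hco
        rcases Finset.mem_insert.1 h with h | h
        · exact hcd h
        · exact hc h)
    refine ⟨y * x, mul_mem hy hx, ?_⟩
    rw [Units.val_mul, ← Matrix.mulVec_mulVec, ey]

theorem exists_single' {H : Subgroup (Matrix ι ι K)ˣ} (hH : ∀ a b, Has H a b) {o o' : ι} (ho : o' ≠ o)
    (v : ι → K) (hv : v ≠ 0) : ∃ h ∈ H, (h : Matrix ι ι K).mulVec v = Pi.single o 1 := by
  have key : ∀ (v : ι → K) (a : ι), a ≠ o → v a ≠ 0 → ∃ h ∈ H, (h : Matrix ι ι K).mulVec v = Pi.single o 1 := by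
    intro v a ha hva
    obtain ⟨x, hx, ex⟩ := (hH o a).resolve_left (Ne.symm ha) ((1 - v o) / v a)
    obtain ⟨y, hy, ey⟩ := exists_single hH o Finset.univ ((x : Matrix ι ι K).mulVec v) (by
      rw [ex, transvection_mulVec, if_pos rfl, div_mul_cancel₀ _ hva]; ring) (fun c hc => absurd (Finset.mem_univ c) hc)
    exact ⟨y * x, mul_mem hy hx, by rw [Units.val_mul, ← Matrix.mulVec_mulVec, ey]⟩
  by_cases h1 : ∃ a, a ≠ o ∧ v a ≠ 0
  · obtain ⟨a, ha, hva⟩ := h1
    exact key v a ha hva
  push Not at h1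
  have hvo : v o ≠ 0 := by
    intro h0
    apply hv
    funext c
    by_cases hc : c = o
    · rw [hc, h0]; rfl
    · exact h1 c hc
  obtain ⟨x, hx, ex⟩ := (hH o' o).resolve_left ho 1
  obtain ⟨y, hy, ey⟩ := key ((x : Matrix ι ι K).mulVec v) o' ho (by
    rw [ex, transvection_mulVec, if_pos rfl, h1 o' ho, zero_add, one_mul]
    exact hvo)
  exact ⟨y * x, mul_mem hy hx, by rw [Units.val_mul, ← Matrix.mulVec_mulVec, ey]⟩

theorem dvd_card [Fintype K] {H : Subgroup (Matrix ι ι K)ˣ} (hH : ∀ a b, Has H a b) {o o' : ι} (ho : o' ≠ o) :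
    Fintype.card K ^ Fintype.card ι - 1 ∣ Nat.card H := by
  classical
  let _ : MulAction H (ι → K) :=
    { smul := fun h v => ((h : (Matrix ι ι K)ˣ) : Matrix ι ι K).mulVec v
      one_smul := fun v => Matrix.one_mulVec v
      mul_smul := fun a b v => by
        show ((a : (Matrix ι ι K)ˣ) * (b : (Matrix ι ι K)ˣ) : Matrix ι ι K).mulVec v = _
        rw [← Matrix.mulVec_mulVec]
        rfl }
  have h1 : MulAction.orbit H (Pi.single o 1 : ι → K) = {v : ι → K | v ≠ 0} := by
    ext v
    constructor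
    · rintro ⟨h, rfl⟩ h0
      have h2 : h⁻¹ • (h • (Pi.single o 1 : ι → K)) = h⁻¹ • (0 : ι → K) := congrArg _ h0
      rw [inv_smul_smul] at h2
      have h3 : (h⁻¹ • (0 : ι → K)) = 0 := Matrix.mulVec_zero _
      rw [h3] at h2
      have h4 := congrFun h2 o
      rw [Pi.single_eq_same] at h4
      exact one_ne_zero h4
    · intro hv
      obtain ⟨h, hh, e⟩ := exists_single' hH ho v hv
      refine ⟨(⟨h, hh⟩ : H)⁻¹, ?_⟩
      have h5 : (⟨h, hh⟩ : H) • v = Pi.single o 1 := e
      show (⟨h, hh⟩ : H)⁻¹ • (Pi.single o 1 : ι → K) = v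
      rw [← h5, inv_smul_smul]
  have h2 := MulAction.index_stabilizer H (Pi.single o 1 : ι → K)
  rw [h1] at h2
  have h3 : ({v : ι → K | v ≠ 0} : Set (ι → K)).ncard = Fintype.card K ^ Fintype.card ι - 1 := by
    have h4 : ({v : ι → K | v ≠ 0} : Set (ι → K)) = ({0} : Set (ι → K))ᶜ := by
      ext v; simp
    rw [h4, Set.ncard_compl, Set.ncard_singleton, Nat.card_eq_fintype_card, Fintype.card_fun]
  rw [← h3, ← h2]
  exact Subgroup.index_dvd_card _

end Cfsg.Agent.H624.L8
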